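import Groth.Agent.InvGen.NormalDvd
import Groth.Agent.FpqcDescent.IdealGlue
import Groth.Prelude.Def_CInt
import Mathlib.AlgebraicGeometry.Morphisms.Proper
import Mathlib.RingTheory.DiscreteValuationRing.TFAE

/-!
# Effective Cartier divisors on a normal scheme are determined by their pullbacks
-/

set_option autoImplicit false
set_option backward.isDefEq.respectTransparency false

universe u

open CategoryTheory AlgebraicGeometry IsLocalRing TopologicalSpace

namespace Groth.Agent.CartierPullEq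

variable {S S' : Scheme.{u}} (f : S' ⟶ S) (U : S.Opens)
  (hU' : CInt.IsSchematicallyDense (f ⁻¹ᵁ U))

theorem le_basicOpen {D : S.IdealSheafData} (hD : (D.support : Set S) ⊆ (U : Set S)ᶜ)
    (V : S.affineOpens) {g : Γ(S, V)} (hg : D.ideal V = Ideal.span {g}) :
    (V : S.Opens) ⊓ U ≤ S.basicOpen g := by
  intro y hy
  by_contra hn
  refine hD ((Scheme.IdealSheafData.mem_support_iff_of_mem hy.1).2 ?_) hy.2
  rw [hg, Scheme.zeroLocus_span, Scheme.mem_zeroLocus_iff]
  simpa using hn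

include hU' in
/-- A section invertible on a schematically dense open is a non-zero-divisor in every stalk. -/
theorem eq_zero_of_germ_mul_eq_zero {V : S.Opens} {g : Γ(S, V)} (hg : V ⊓ U ≤ S.basicOpen g) {W : S'.Opens}
    (e : W ≤ f ⁻¹ᵁ V) {s : S'} (hs : s ∈ W) (a : S'.presheaf.stalk s)
    (ha : S'.presheaf.germ W s hs (f.appLE V W e g) * a = 0) : a = 0 := by
  obtain ⟨W₁, hs₁, a₀, rfl⟩ := S'.presheaf.exists_germ_eq a
  obtain ⟨W₂, hs₂, j, j'⟩ : ∃ W₂ : S'.Opens, s ∈ W₂ ∧ W₂ ≤ W ∧ W₂ ≤ W₁ :=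
    ⟨W ⊓ W₁, ⟨hs, hs₁⟩, inf_le_left, inf_le_right⟩
  let G₂ := S'.presheaf.map (homOfLE j).op (f.appLE V W e g)
  let a₂ := S'.presheaf.map (homOfLE j').op a₀
  have h0 : S'.presheaf.germ W₂ s hs₂ (G₂ * a₂) = S'.presheaf.germ W₂ s hs₂ 0 := by
    rw [map_mul, map_zero]
    simp only [G₂, a₂, S'.presheaf.germ_res_apply]
    exact ha
  obtain ⟨W₃, hs₃, i₁, i₂, h₃⟩ := S'.presheaf.germ_eq s hs₂ hs₂ _ _ h0
  rw [map_zero, map_mul] at h₃
  have h₃W : W₃ ≤ W := i₁.le.trans j
  have key : S'.presheaf.map i₁.op a₂ = 0 := by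
    apply hU' W₃
    rw [map_zero]
    let O := W₃ ⊓ f ⁻¹ᵁ U
    have eO : O ≤ f ⁻¹ᵁ (V ⊓ U) := fun z hz => ⟨e (h₃W hz.1), hz.2⟩
    have hunit : IsUnit (S'.presheaf.map (homOfLE (inf_le_left : O ≤ W₃)).op (S'.presheaf.map i₁.op G₂)) := by
      have h1 : S'.presheaf.map (homOfLE (inf_le_left : O ≤ W₃)).op (S'.presheaf.map i₁.op G₂) =
          f.appLE (V ⊓ U) O eO (S.presheaf.map (homOfLE (inf_le_left : V ⊓ U ≤ V)).op g) := by
        simp only [G₂, ← CommRingCat.comp_apply, Category.assoc, ← S'.presheaf.map_comp,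
          Scheme.Hom.appLE_map, Scheme.Hom.map_appLE]
        rfl
      rw [h1]
      refine IsUnit.map _ ?_
      have h2 := (AlgebraicGeometry.RingedSpace.isUnit_res_basicOpen _ g).map
        (S.presheaf.map (homOfLE hg).op).hom
      erw [← CommRingCat.comp_apply, ← S.presheaf.map_comp] at h2
      exact h2
    have h4 := congrArg (S'.presheaf.map (homOfLE (inf_le_left : O ≤ W₃)).op) h₃
    rw [map_zero, map_mul] at h4
    exact hunit.mul_right_eq_zero.1 h4
  have h5 := congrArg (S'.presheaf.germ W₃ s hs₃) key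
  rw [map_zero, S'.presheaf.germ_res_apply] at h5
  simpa only [a₂, S'.presheaf.germ_res_apply] using h5

include hU' in
theorem dvd_germ {D E : S.IdealSheafData} (hDU : (D.support : Set S) ⊆ (U : Set S)ᶜ)
    (hEU : (E.support : Set S) ⊆ (U : Set S)ᶜ) (h : D.comap f = E.comap f)
    (V : S.affineOpens) {g g' : Γ(S, V)} (hg : D.ideal V = Ideal.span {g}) (hg' : E.ideal V = Ideal.span {g'})
    (s : S') (y : S) (hsy : f s = y) (hs : y ∈ (V : S.Opens)) [IsDomain (S.presheaf.stalk y)]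
    [ValuationRing (S.presheaf.stalk y)] :
    S.presheaf.germ V y hs g ∣ S.presheaf.germ V y hs g' := by
  subst hsy
  rcases ValuationRing.cond (S.presheaf.germ V (f s) hs g) (S.presheaf.germ V (f s) hs g') with ⟨c, hc⟩
  rcases hc with hc | hc
  · exact ⟨c, hc.symm⟩
  obtain ⟨W, hW, hsW, hWV⟩ := exists_isAffineOpen_mem_and_subset (X := S') (x := s) (U := f ⁻¹ᵁ V.1) hs
  have hI := congrArg (fun I : S'.IdealSheafData => I.ideal ⟨W, hW⟩) h
  simp only [FpqcDescent.ideal_comap_appLE _ f V ⟨W, hW⟩ hWV, hg, hg', Ideal.map_span, Set.image_singleton] at hI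
  obtain ⟨e, he⟩ : f.appLE V W hWV g ∣ f.appLE V W hWV g' := Ideal.span_singleton_le_span_singleton.1 hI.ge
  have hgerm : ∀ t : Γ(S, V), f.stalkMap s (S.presheaf.germ V (f s) hs t) =
      S'.presheaf.germ W s hsW (f.appLE V W hWV t) := by
    intro t
    rw [Scheme.Hom.germ_stalkMap_apply, Scheme.Hom.appLE, CommRingCat.comp_apply, S'.presheaf.germ_res_apply]
  have h2 := congrArg (f.stalkMap s) hc
  rw [map_mul, hgerm, hgerm, he, map_mul] at h2
  have h3 : (1 : S'.presheaf.stalk s) = S'.presheaf.germ W s hsW e * f.stalkMap s c := by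
    refine sub_eq_zero.1 (eq_zero_of_germ_mul_eq_zero f U hU' (le_basicOpen U hDU V hg) hWV hsW _ ?_)
    linear_combination -h2
  have hc1 : IsUnit c := (isUnit_map_iff (f.stalkMap s).hom c).1
    (IsUnit.of_mul_eq_one_right _ h3.symm)
  exact (hc1.dvd_mul_right).1 (by rw [hc])

include hU' in
theorem le_of_comap_eq [IsLocallyNoetherian S] (hsurj : Function.Surjective f.base)
    (hnorm : ∀ x : S, IsDomain (S.presheaf.stalk x) ∧ IsIntegrallyClosed (S.presheaf.stalk x))
    {D E : S.IdealSheafData} (hDU : (D.support : Set S) ⊆ (U : Set S)ᶜ)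
    (hEU : (E.support : Set S) ⊆ (U : Set S)ᶜ) (h : D.comap f = E.comap f)
    (V : S.affineOpens) {g g' : Γ(S, V)} (hg : D.ideal V = Ideal.span {g}) (hg' : E.ideal V = Ideal.span {g'})
    (hnzd : g ∈ nonZeroDivisors Γ(S, V)) : g ∣ g' := by
  haveI : IsNoetherianRing Γ(S, V) := IsLocallyNoetherian.component_noetherian V
  rw [← Ideal.mem_span_singleton]
  by_contra hn
  obtain ⟨P, hP, hIP⟩ := Ideal.exists_le_maximal (Submodule.colon (Ideal.span {g}) {g'}) (fun htop => hn (by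
    have : (1 : Γ(S, V)) ∈ Submodule.colon (Ideal.span {g}) {g'} := htop ▸ Submodule.mem_top
    simpa [Submodule.mem_colon_singleton] using this))
  have hx : V.2.fromSpec ⟨P, hP.isPrime⟩ ∈ (V : S.Opens) := V.2.range_fromSpec.le (Set.mem_range_self _)
  let := S.presheaf.algebra_section_stalk ⟨_, hx⟩
  haveI := V.2.isLocalization_stalk' ⟨P, hP.isPrime⟩ hx
  let R := S.presheaf.stalk (V.2.fromSpec ⟨P, hP.isPrime⟩)
  haveI : IsDomain R := (hnorm _).1
  haveI : IsIntegrallyClosed R := (hnorm _).2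
  haveI : IsNoetherianRing R := IsLocalization.isNoetherianRing P.primeCompl R inferInstance
  have hg0 : algebraMap Γ(S, V) R g ≠ 0 := fun h0 => by
    obtain ⟨t, ht⟩ := (IsLocalization.map_eq_zero_iff P.primeCompl R g).1 h0
    exact t.2 (by rw [mem_nonZeroDivisors_iff_right.1 hnzd _ ht]; exact P.zero_mem)
  have hdvd : algebraMap Γ(S, V) R g ∣ algebraMap Γ(S, V) R g' := by
    refine InvGen.dvd_of_forall_height_one hg0 fun q hq hq1 => ?_
    let Q := q.comap (algebraMap Γ(S, V) R)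
    have hQ1 : Q.height = 1 := (IsLocalization.height_comap P.primeCompl q).trans hq1
    haveI hQp : Q.IsPrime := Ideal.IsPrime.comap _
    obtain ⟨s, hs⟩ := hsurj (V.2.fromSpec ⟨Q, hQp⟩)
    have hy : V.2.fromSpec ⟨Q, hQp⟩ ∈ (V : S.Opens) := V.2.range_fromSpec.le (Set.mem_range_self _)
    obtain ⟨hyd, hyc⟩ := hnorm (V.2.fromSpec ⟨Q, hQp⟩)
    have key : ∃ t ∉ Q, g ∣ t * g' := by
      letI := TopCat.Presheaf.algebra_section_stalk S.presheaf ⟨_, hy⟩
      haveI := V.2.isLocalization_stalk' ⟨Q, hQp⟩ hy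
      let T := S.presheaf.stalk (V.2.fromSpec ⟨Q, hQp⟩)
      haveI : IsDomain T := hyd
      haveI : IsNoetherianRing T := IsLocalization.isNoetherianRing Q.primeCompl T inferInstance
      haveI : Ring.KrullDimLE 1 T := Ring.krullDimLE_iff.2 (by
        rw [IsLocalization.AtPrime.ringKrullDim_eq_height Q T, hQ1]; rfl)
      have hTF : (IsIntegrallyClosed T ∧ ∀ P : Ideal T, P ≠ ⊥ → P.IsPrime → P = maximalIdeal T) ↔ ValuationRing T :=
        (tfae_of_isNoetherianRing_of_isLocalRing_of_isDomain T).out 3 1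
      haveI hval : ValuationRing T := hTF.1
        ⟨hyc, fun I hI hIp => eq_maximalIdeal ((Ring.krullDimLE_one_iff_of_isPrime_bot.1 inferInstance) I hI hIp)⟩
      have hd : algebraMap Γ(S, V) T g ∣ algebraMap Γ(S, V) T g' :=
        dvd_germ f U hU' hDU hEU h V hg hg' s _ hs hy
      obtain ⟨c, hc⟩ := hd
      obtain ⟨⟨a, t⟩, hat⟩ := IsLocalization.surj Q.primeCompl c
      obtain ⟨w, hw⟩ := (IsLocalization.eq_iff_exists Q.primeCompl T).1
        (show algebraMap Γ(S, V) T (t * g') = algebraMap Γ(S, V) T (g * a) by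
          rw [map_mul, map_mul, ← hat, hc]; ring)
      exact ⟨w * t, fun hwt => (hQp.mem_or_mem hwt).elim w.2 t.2, w * a, by rw [mul_assoc, hw]; ring⟩
    obtain ⟨t, ht, hdt⟩ := key
    exact ⟨algebraMap _ R t, ht, by rw [← map_mul]; exact map_dvd _ hdt⟩
  obtain ⟨c, hc⟩ := hdvd
  obtain ⟨⟨a, t⟩, hat⟩ := IsLocalization.surj P.primeCompl c
  obtain ⟨w, hw⟩ := (IsLocalization.eq_iff_exists P.primeCompl R).1
    (show algebraMap Γ(S, V) R (t * g') = algebraMap Γ(S, V) R (g * a) by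
      rw [map_mul, map_mul, ← hat, hc]; ring)
  have hmem : (w : Γ(S, V)) * t ∈ P := hIP (by
    rw [Submodule.mem_colon_singleton, smul_eq_mul, mul_assoc, hw]
    exact Ideal.mem_span_singleton.2 ⟨w * a, by ring⟩)
  exact (hP.isPrime.mem_or_mem hmem).elim w.2 t.2

theorem map_mem_nonZeroDivisors {X : Scheme.{u}} (V₁ : X.affineOpens) (a : Γ(X, V₁))
    (hle : X.basicOpen a ≤ (V₁ : X.Opens)) {g : Γ(X, V₁)} (hg : g ∈ nonZeroDivisors Γ(X, V₁)) :
    X.presheaf.map (homOfLE hle).op g ∈ nonZeroDivisors Γ(X, X.basicOpen a) := by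
  haveI := V₁.2.isLocalization_basicOpen a
  exact IsLocalization.map_nonZeroDivisors_le (.powers a) Γ(X, X.basicOpen a)
    (Submonoid.mem_map_of_mem (algebraMap Γ(X, V₁) Γ(X, X.basicOpen a)) hg)

theorem mem_nonZeroDivisors_congr {X : Scheme.{u}} {W O O' : X.Opens} (i : O ≤ W) (i' : O' ≤ W)
    (hO : O' = O) {g : Γ(X, W)} (hg : X.presheaf.map (homOfLE i).op g ∈ nonZeroDivisors Γ(X, O)) :
    X.presheaf.map (homOfLE i').op g ∈ nonZeroDivisors Γ(X, O') := by
  subst hO
  exact hg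

end Groth.Agent.CartierPullEq
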